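import Mathlib
import Groth.Agent.CommAlg4.PoleSys

/-! Vanishing orders of the systems `Λ(deg ≤ N)` at the marked points and at infinity. -/

set_option autoImplicit false

open Polynomial Groth.Agent.CommAlg4.PoleSys

namespace Groth.Agent.PoleW15

variable {k : Type*} [Field k] [CharZero k] {m : ℕ} (r : Fin m → k) (a : Fin m → ℕ)

noncomputable def Vs (N : ℕ) : Submodule k k[X] := (degreeLT k (N + 1)).map (Λ r a)

instance finite_degreeLT (n : ℕ) : Module.Finite k ↥(degreeLT k n) := Module.Finite.equiv (degreeLTEquiv k n).symm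

instance finite_Vs (N : ℕ) : Module.Finite k ↥(Vs r a N) := Module.Finite.map _ _

theorem V_eq (hr : Function.Injective r) (b N : ℕ) (hN : N = (∑ j, a j) + b) :
    (degreeLT k b).map (LinearMap.mulLeft k (∏ j, (X - C (r j)) ^ (a j + 1))) ⊔
      ⨆ i, (degreeLT k (a i)).map (LinearMap.mulLeft k (∏ j ∈ Finset.univ.erase i, (X - C (r j)) ^ (a j + 1))) =
      Vs r a N := by
  refine le_antisymm (hN ▸ le_range r a b) ?_
  have := range_le r a hr (b + 1)
  rw [Nat.add_sub_cancel, ← add_assoc, ← hN] at this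
  exact this

theorem mem_kerΛ (N : ℕ) (hN : (∑ j, a j) ≤ N) (M : k[X]) (hM : M ∈ degreeLT k (N + 1)) (h : Λ r a M = 0) :
    ∃ c : k, M = c • D₀ r a := by
  classical
  obtain ⟨q, hq⟩ := Infinite.exists_notMem_finset (Finset.univ.image r)
  have hq' : ∀ j, q ≠ r j := fun j e => hq (Finset.mem_image.2 ⟨j, Finset.mem_univ _, e.symm⟩)
  obtain ⟨c, hc⟩ := dvd_of_dvd r a N q hq' M (h ▸ dvd_zero _)
  refine ⟨c, ?_⟩
  rw [smul_eq_C_mul, ← sub_eq_zero]
  refine eq_zero_of_dvd_of_degree_lt hc ?_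
  rw [degree_pow, degree_X_sub_C, nsmul_one]
  refine lt_of_le_of_lt (degree_sub_le _ _) (max_lt (mem_degreeLT.1 hM) ?_)
  refine lt_of_le_of_lt ((degree_mul_le _ _).trans (add_le_add degree_C_le le_rfl)) ?_
  rw [zero_add, degree_eq_natDegree (D₀_ne_zero r a), natDegree_D₀]
  exact_mod_cast Nat.lt_succ_of_le hN

theorem D₀_mem (N : ℕ) (hN : (∑ j, a j) ≤ N) : D₀ r a ∈ degreeLT k (N + 1) := by
  rw [mem_degreeLT, degree_eq_natDegree (D₀_ne_zero r a), natDegree_D₀]
  exact_mod_cast Nat.lt_succ_of_le hN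

open scoped Classical in
theorem finrank_map_Λ (N : ℕ) (hN : (∑ j, a j) ≤ N) (W : Submodule k k[X]) (hW : W ≤ degreeLT k (N + 1)) :
    Module.finrank k ↥(W.map (Λ r a)) = Module.finrank k ↥W - if D₀ r a ∈ W then 1 else 0 := by
  haveI : Module.Finite k W := Submodule.finiteDimensional_of_le hW
  have h := LinearMap.finrank_range_add_finrank_ker ((Λ r a).domRestrict W)
  rw [LinearMap.range_domRestrict] at h
  split_ifs with hD
  · have hker : LinearMap.ker ((Λ r a).domRestrict W) = k ∙ (⟨D₀ r a, hD⟩ : W) := by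
      refine le_antisymm ?_ ((Submodule.span_singleton_le_iff_mem _ _).2 (Λ_D₀ r a))
      rintro ⟨M, hM⟩ hMk
      obtain ⟨c, hc⟩ := mem_kerΛ r a N hN M (hW hM) hMk
      exact Submodule.mem_span_singleton.2 ⟨c, Subtype.ext hc.symm⟩
    rw [hker, finrank_span_singleton (fun e => D₀_ne_zero r a (congrArg Subtype.val e))] at h
    omega
  · have hker : LinearMap.ker ((Λ r a).domRestrict W) = ⊥ := by
      refine (Submodule.eq_bot_iff _).2 ?_
      rintro ⟨M, hM⟩ hMk
      obtain ⟨c, hc⟩ := mem_kerΛ r a N hN M (hW hM) hMk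
      have hc0 : c = 0 := by
        by_contra h0
        exact hD ((Submodule.smul_mem_iff W h0).1 (hc ▸ hM))
      apply Subtype.ext
      simp [hc, hc0]
    rw [hker, finrank_bot] at h
    omega

/-- polynomials of degree `≤ N` vanishing to order `n` at `c` -/
noncomputable def Wpt (N : ℕ) (c : k) (n : ℕ) : Submodule k k[X] :=
  degreeLT k (N + 1) ⊓ (Ideal.span {(X - C c) ^ n}).restrictScalars k

omit [CharZero k] in
theorem mem_Wpt (N : ℕ) (c : k) (n : ℕ) (M : k[X]) :
    M ∈ Wpt N c n ↔ M ∈ degreeLT k (N + 1) ∧ (X - C c) ^ n ∣ M := by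
  simp [Wpt, Ideal.mem_span_singleton]

omit [CharZero k] in
theorem finrank_Wpt (N : ℕ) (c : k) (n : ℕ) : Module.finrank k ↥(Wpt N c n) = N + 1 - n := by
  have hne : (X - C c) ^ n ≠ 0 := pow_ne_zero _ (X_sub_C_ne_zero _)
  have hd : ((X - C c) ^ n).degree = ((n : ℕ) : WithBot ℕ) := by rw [degree_pow, degree_X_sub_C, nsmul_one]
  have hEq : Wpt N c n = (degreeLT k (N + 1 - n)).map (LinearMap.mulLeft k ((X - C c) ^ n)) := by
    ext M
    rw [mem_Wpt, Submodule.mem_map]
    constructor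
    · rintro ⟨hM, Q, rfl⟩
      refine ⟨Q, mem_degreeLT.2 ?_, rfl⟩
      by_cases hQ : Q = 0
      · rw [hQ, degree_zero]; exact WithBot.bot_lt_coe _
      have h := mem_degreeLT.1 hM
      rw [degree_mul, hd, degree_eq_natDegree hQ] at h
      rw [degree_eq_natDegree hQ]
      have h' : n + Q.natDegree < N + 1 := by exact_mod_cast h
      exact_mod_cast (by omega : Q.natDegree < N + 1 - n)
    · rintro ⟨Q, hQ, rfl⟩
      refine ⟨?_, dvd_mul_right _ _⟩
      by_cases hQ0 : Q = 0
      · rw [hQ0, map_zero]; exact zero_mem _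
      rw [mem_degreeLT, LinearMap.mulLeft_apply, degree_mul, hd, degree_eq_natDegree hQ0]
      have h := mem_degreeLT.1 hQ
      rw [degree_eq_natDegree hQ0] at h
      have h' : Q.natDegree < N + 1 - n := by exact_mod_cast h
      exact_mod_cast (by omega : n + Q.natDegree < N + 1)
  rw [hEq, ← (Submodule.equivMapOfInjective _ (fun x y h => mul_left_cancel₀ hne h) _).finrank_eq, finrank_degreeLT]

theorem Λ_pow_mul (i : Fin m) (μ : ℕ) (Q : k[X]) :
    ∃ T : k[X], Λ r a ((X - C (r i)) ^ μ * Q) = (X - C (r i)) ^ μ *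
      (((μ : k[X]) - (a i : k[X])) * (∏ j ∈ Finset.univ.erase i, (X - C (r j))) * Q + (X - C (r i)) * T) := by
  classical
  set Fi := ∏ j ∈ Finset.univ.erase i, (X - C (r j)) with hFi
  have hsplit : ∃ U : k[X], (∑ j, (a j : k[X]) * ∏ l ∈ Finset.univ.erase j, (X - C (r l))) =
      (a i : k[X]) * Fi + (X - C (r i)) * U := by
    refine ⟨∑ j ∈ Finset.univ.erase i, (a j : k[X]) * ∏ l ∈ (Finset.univ.erase j).erase i, (X - C (r l)), ?_⟩
    rw [← Finset.add_sum_erase _ _ (Finset.mem_univ i), Finset.mul_sum]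
    congr 1
    refine Finset.sum_congr rfl fun j hj => ?_
    rw [← Finset.mul_prod_erase (Finset.univ.erase j) (fun l => X - C (r l))
      (Finset.mem_erase.2 ⟨(Finset.ne_of_mem_erase hj).symm, Finset.mem_univ i⟩)]
    ring
  obtain ⟨U, hU⟩ := hsplit
  refine ⟨Fi * derivative Q - U * Q, ?_⟩
  rw [Λ_apply, hU, ← Finset.mul_prod_erase _ (fun l => X - C (r l)) (Finset.mem_univ i), derivative_mul, derivative_pow,
    derivative_sub, derivative_X, derivative_C, sub_zero, mul_one, C_eq_natCast]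
  rcases μ with - | μ
  · simp; ring
  · rw [Nat.add_sub_cancel, pow_succ]; push_cast; ring

theorem eval_Fi (hr : Function.Injective r) (i : Fin m) :
    (∏ j ∈ Finset.univ.erase i, (X - C (r j))).eval (r i) ≠ 0 := by
  rw [eval_prod]
  exact Finset.prod_ne_zero_iff.2 fun j hj => by
    simpa [sub_eq_zero] using fun e => Finset.ne_of_mem_erase hj (hr e).symm

theorem dvd_Λ (i : Fin m) (n : ℕ) (M : k[X]) (h : (X - C (r i)) ^ n ∣ M) : (X - C (r i)) ^ n ∣ Λ r a M := by
  obtain ⟨Q, rfl⟩ := h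
  obtain ⟨T, hT⟩ := Λ_pow_mul r a i n Q
  exact ⟨_, hT⟩

theorem order_dichotomy (hr : Function.Injective r) (i : Fin m) (n : ℕ) (P : k[X]) (hP0 : P ≠ 0)
    (h : (X - C (r i)) ^ n ∣ Λ r a P) : n ≤ rootMultiplicity (r i) P ∨ rootMultiplicity (r i) P = a i := by
  by_contra hcon
  rw [not_or, not_le] at hcon
  obtain ⟨Q, hPQ, hQ⟩ := exists_eq_pow_rootMultiplicity_mul_and_not_dvd P hP0 (r i)
  set μ := rootMultiplicity (r i) P
  obtain ⟨T, hT⟩ := Λ_pow_mul r a i μ Q
  rw [← hPQ] at hT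
  have h2 : (X - C (r i)) ^ (μ + 1) ∣ Λ r a P := (pow_dvd_pow _ (by omega)).trans h
  rw [hT, pow_succ, mul_dvd_mul_iff_left (pow_ne_zero _ (X_sub_C_ne_zero _))] at h2
  have h3 := (dvd_add_left (dvd_mul_right _ T)).1 h2
  rw [dvd_iff_isRoot, IsRoot, eval_mul, eval_mul, eval_sub, eval_natCast, eval_natCast] at h3
  rcases mul_eq_zero.1 h3 with h4 | h4
  · rcases mul_eq_zero.1 h4 with h5 | h5
    · exact hcon.2 (Nat.cast_injective (sub_eq_zero.1 h5))
    · exact eval_Fi r hr i h5
  · exact hQ (dvd_iff_isRoot.2 h4)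

theorem exists_sub_dvd (hr : Function.Injective r) (i : Fin m) (n : ℕ) (M : k[X])
    (h : (X - C (r i)) ^ n ∣ Λ r a M) : ∃ c : k, (X - C (r i)) ^ n ∣ M - c • D₀ r a := by
  classical
  by_cases hdv : (X - C (r i)) ^ n ∣ M
  · exact ⟨0, by simpa using hdv⟩
  have hM0 : M ≠ 0 := fun e => hdv (e ▸ dvd_zero _)
  have hμ : rootMultiplicity (r i) M = a i := (order_dichotomy r a hr i n M hM0 h).resolve_left fun hle =>
    hdv ((pow_dvd_pow _ hle).trans (pow_rootMultiplicity_dvd M (r i)))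
  obtain ⟨Q, hMQ, -⟩ := exists_eq_pow_rootMultiplicity_mul_and_not_dvd M hM0 (r i)
  rw [hμ] at hMQ
  set E := ∏ j ∈ Finset.univ.erase i, (X - C (r j)) ^ a j with hE
  have hDE : D₀ r a = (X - C (r i)) ^ a i * E :=
    (Finset.mul_prod_erase Finset.univ (fun j => (X - C (r j)) ^ a j) (Finset.mem_univ i)).symm
  have hEr : E.eval (r i) ≠ 0 := by
    rw [hE, eval_prod]
    exact Finset.prod_ne_zero_iff.2 fun j hj => by
      rw [eval_pow]
      exact pow_ne_zero _ (by simpa [sub_eq_zero] using fun e => Finset.ne_of_mem_erase hj (hr e).symm)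
  set c := Q.eval (r i) / E.eval (r i) with hc
  refine ⟨c, ?_⟩
  set P := M - c • D₀ r a with hP
  by_cases hP0 : P = 0
  · rw [hP0]; exact dvd_zero _
  have hdP : (X - C (r i)) ^ (a i + 1) ∣ P := by
    obtain ⟨W, hW⟩ : X - C (r i) ∣ Q - C c * E := dvd_iff_isRoot.2 (by
      simp [IsRoot, hc, div_mul_cancel₀ _ hEr])
    refine ⟨W, ?_⟩
    rw [hP, hMQ, hDE, smul_eq_C_mul, pow_succ]
    linear_combination (X - C (r i)) ^ a i * hW
  have hΛ : Λ r a P = Λ r a M := by rw [hP, map_sub, map_smul, Λ_D₀, smul_zero, sub_zero]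
  rcases order_dichotomy r a hr i n P hP0 (hΛ ▸ h) with hle | heq
  · exact (pow_dvd_pow _ hle).trans (pow_rootMultiplicity_dvd P (r i))
  · have := (le_rootMultiplicity_iff hP0).2 hdP
    omega

theorem Vs_inf_pt (hr : Function.Injective r) (N : ℕ) (hN : (∑ j, a j) ≤ N) (i : Fin m) (n : ℕ) :
    Vs r a N ⊓ (Ideal.span {(X - C (r i)) ^ n}).restrictScalars k = (Wpt N (r i) n).map (Λ r a) := by
  refine le_antisymm ?_ ?_
  · rintro _ ⟨⟨M, hM, rfl⟩, hdv⟩
    obtain ⟨c, hc⟩ := exists_sub_dvd r a hr i n M (Ideal.mem_span_singleton.1 hdv)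
    exact ⟨M - c • D₀ r a, (mem_Wpt _ _ _ _).2 ⟨sub_mem hM (Submodule.smul_mem _ _ (D₀_mem r a N hN)), hc⟩,
      by rw [map_sub, map_smul, Λ_D₀, smul_zero, sub_zero]⟩
  · rintro _ ⟨M, hM, rfl⟩
    obtain ⟨h1, h2⟩ := (mem_Wpt _ _ _ _).1 hM
    exact ⟨⟨M, h1, rfl⟩, Ideal.mem_span_singleton.2 (dvd_Λ r a i n M h2)⟩

theorem pow_dvd_D₀_iff (hr : Function.Injective r) (i : Fin m) (n : ℕ) :
    (X - C (r i)) ^ n ∣ D₀ r a ↔ n ≤ a i := by
  classical
  have hsp : D₀ r a = (X - C (r i)) ^ a i * ∏ j ∈ Finset.univ.erase i, (X - C (r j)) ^ a j :=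
    (Finset.mul_prod_erase Finset.univ (fun j => (X - C (r j)) ^ a j) (Finset.mem_univ i)).symm
  constructor
  · intro h
    by_contra hlt
    have h1 := (pow_dvd_pow (X - C (r i)) (show a i + 1 ≤ n by omega)).trans h
    rw [hsp, pow_succ, mul_dvd_mul_iff_left (pow_ne_zero _ (X_sub_C_ne_zero _)), dvd_iff_isRoot, IsRoot, eval_prod,
      Finset.prod_eq_zero_iff] at h1
    obtain ⟨j, hj, hj0⟩ := h1
    simp [sub_eq_zero] at hj0
    exact Finset.ne_of_mem_erase hj (hr hj0.1).symm
  · intro h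
    rw [hsp]
    exact (pow_dvd_pow _ h).trans (dvd_mul_right _ _)

open scoped Classical in
theorem finrank_pt (hr : Function.Injective r) (N : ℕ) (hN : (∑ j, a j) ≤ N) (i : Fin m) (n : ℕ) :
    Module.finrank k ↥(Vs r a N ⊓ (Ideal.span {(X - C (r i)) ^ n}).restrictScalars k) =
      if n ≤ a i then N - n else N + 1 - n := by
  rw [Vs_inf_pt r a hr N hN, finrank_map_Λ r a N hN (Wpt N (r i) n) inf_le_left, finrank_Wpt]
  by_cases h : n ≤ a i
  · rw [if_pos h, if_pos ((mem_Wpt _ _ _ _).2 ⟨D₀_mem r a N hN, (pow_dvd_D₀_iff r a hr i n).2 h⟩)]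
    omega
  · rw [if_neg h, if_neg (fun hh => h ((pow_dvd_D₀_iff r a hr i n).1 ((mem_Wpt _ _ _ _).1 hh).2)), Nat.sub_zero]

omit [CharZero k] in
theorem natDegree_Λ_le (M : k[X]) :
    (Λ r a M).degree < ((M.natDegree + m : ℕ) : WithBot ℕ) := by
  classical
  rcases Nat.eq_zero_or_pos m with rfl | hm
  · have : Λ r a M = derivative M := by simp [Λ_apply]
    rw [this, Nat.add_zero]
    by_cases h : derivative M = 0
    · rw [h, degree_zero]; exact WithBot.bot_lt_coe _
    rw [degree_eq_natDegree h]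
    have hne : M.natDegree ≠ 0 := fun e => h (by rw [eq_C_of_natDegree_eq_zero e, derivative_C])
    exact_mod_cast natDegree_derivative_lt hne
  refine lt_of_le_of_lt degree_le_natDegree ?_
  have h1 : (Λ r a M).natDegree ≤ M.natDegree + (m - 1) := by
    rw [Λ_apply]
    refine (natDegree_sub_le _ _).trans (max_le ?_ ?_)
    · by_cases hne : M.natDegree = 0
      · rw [eq_C_of_natDegree_eq_zero hne, derivative_C, mul_zero, natDegree_zero]; exact Nat.zero_le _
      · refine natDegree_mul_le.trans ?_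
        have := natDegree_derivative_lt hne
        rw [natDegree_prod _ _ fun j _ => X_sub_C_ne_zero _]
        simp only [natDegree_X_sub_C, Finset.sum_const, Finset.card_univ, Fintype.card_fin, smul_eq_mul, mul_one]
        omega
    · refine natDegree_mul_le.trans ?_
      rw [add_comm]
      refine Nat.add_le_add_left (natDegree_sum_le_of_forall_le _ _ fun j _ => natDegree_mul_le.trans ?_) _
      rw [natDegree_natCast, natDegree_prod _ _ fun l _ => X_sub_C_ne_zero _]
      simp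
  exact_mod_cast (by omega : (Λ r a M).natDegree < M.natDegree + m)

theorem coeff_Λ (M : k[X]) (e : ℕ) (he : M.natDegree = e + 1) :
    (Λ r a M).coeff (e + m) = ((e + 1 : ℕ) : k) * M.leadingCoeff - ((∑ j, a j : ℕ) : k) * M.leadingCoeff := by
  classical
  rw [Λ_apply, coeff_sub]
  congr 1
  · rw [add_comm e m]
    have hmF : (∏ j, (X - C (r j))).natDegree = m := by
      rw [natDegree_prod _ _ fun j _ => X_sub_C_ne_zero _]; simp
    have hdg : (derivative M).natDegree ≤ e := by
      have := natDegree_derivative_lt (p := M) (by omega)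
      omega
    have hlead : (∏ j, (X - C (r j))).coeff m = (1 : k) := by
      have := (monic_prod_of_monic _ _ fun j _ => monic_X_sub_C (r j) : (∏ j, (X - C (r j))).Monic).coeff_natDegree
      rwa [hmF] at this
    rw [coeff_mul_add_eq_of_natDegree_le (df := m) (dg := e) hmF.le hdg, hlead,
      one_mul, coeff_derivative, leadingCoeff, he]
    push_cast; ring
  · rw [Finset.sum_mul, finset_sum_coeff, Nat.cast_sum, Finset.sum_mul]
    refine Finset.sum_congr rfl fun j _ => ?_
    have hdj : (∏ l ∈ Finset.univ.erase j, (X - C (r l))).natDegree = m - 1 := by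
      rw [natDegree_prod _ _ fun l _ => X_sub_C_ne_zero _]; simp
    have hm : 1 ≤ m := Fin.pos j
    rw [mul_assoc, ← C_eq_natCast, coeff_C_mul, show e + m = (m - 1) + (e + 1) by omega,
      coeff_mul_add_eq_of_natDegree_le hdj.le he.le]
    have h1 : (∏ l ∈ Finset.univ.erase j, (X - C (r l))).coeff (m - 1) = 1 := by
      have := (monic_prod_of_monic _ _ fun l _ => monic_X_sub_C (r l) :
        (∏ l ∈ Finset.univ.erase j, (X - C (r l))).Monic).coeff_natDegree
      rwa [hdj] at this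
    rw [h1, one_mul, leadingCoeff, he]

theorem natDegree_dichotomy (e : ℕ) (M : k[X]) (h : Λ r a M ∈ degreeLT k (e + m)) :
    M.natDegree ≤ e ∨ M.natDegree = ∑ j, a j := by
  by_contra hcon
  rw [not_or, not_le] at hcon
  obtain ⟨s, hs⟩ : ∃ s, M.natDegree = s + 1 := ⟨M.natDegree - 1, by omega⟩
  have h0 := (degree_lt_iff_coeff_zero _ _).1 (mem_degreeLT.1 h) (s + m) (by omega)
  rw [coeff_Λ r a M s hs, ← sub_mul] at h0
  rcases mul_eq_zero.1 h0 with h1 | h1
  · exact hcon.2 (hs.trans (Nat.cast_injective (sub_eq_zero.1 h1)))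
  · rw [leadingCoeff_eq_zero] at h1
    rw [h1, natDegree_zero] at hcon
    omega

theorem Vs_inf_top (N : ℕ) (hN : (∑ j, a j) ≤ N) (e : ℕ) (he : e ≤ N + 1) :
    Vs r a N ⊓ degreeLT k (e - 1 + m) = (degreeLT k e).map (Λ r a) ∨ e = 0 := by
  rcases Nat.eq_zero_or_pos e with h0 | hpos
  · exact Or.inr h0
  left
  refine le_antisymm ?_ ?_
  · rintro _ ⟨⟨M, hM, rfl⟩, hd⟩
    have key : ∃ c : k, M - c • D₀ r a ∈ degreeLT k e := by
      have hdeg : ∀ P : k[X], P.natDegree ≤ e - 1 → P ∈ degreeLT k e := fun P hP =>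
        mem_degreeLT.2 (lt_of_le_of_lt degree_le_natDegree (by exact_mod_cast (by omega : P.natDegree < e)))
      rcases natDegree_dichotomy r a (e - 1) M hd with h | h
      · exact ⟨0, by rw [zero_smul, sub_zero]; exact hdeg M h⟩
      · by_cases hA : (∑ j, a j) ≤ e - 1
        · exact ⟨0, by rw [zero_smul, sub_zero]; exact hdeg M (h ▸ hA)⟩
        refine ⟨M.leadingCoeff, ?_⟩
        set P := M - M.leadingCoeff • D₀ r a with hP
        have hΛ : Λ r a P = Λ r a M := by rw [hP, map_sub, map_smul, Λ_D₀, smul_zero, sub_zero]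
        rcases natDegree_dichotomy r a (e - 1) P (hΛ ▸ hd) with h' | h'
        · exact hdeg P h'
        · exfalso
          have hmon : (D₀ r a).Monic := monic_prod_of_monic _ _ fun j _ => (monic_X_sub_C _).pow _
          have hc : P.coeff (∑ j, a j) = 0 := by
            rw [hP, coeff_sub, coeff_smul, ← h, leadingCoeff, smul_eq_mul,
              show (D₀ r a).coeff M.natDegree = 1 by rw [h, ← natDegree_D₀ r a]; exact hmon.coeff_natDegree, mul_one, sub_self]
          have hP0 : P = 0 := leadingCoeff_eq_zero.1 (by rw [leadingCoeff, h']; exact hc)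
          rw [hP0, natDegree_zero] at h'
          omega
    obtain ⟨c, hc⟩ := key
    exact ⟨M - c • D₀ r a, hc, by rw [map_sub, map_smul, Λ_D₀, smul_zero, sub_zero]⟩
  · rintro _ ⟨M, hM, rfl⟩
    refine ⟨⟨M, degreeLT_mono (by omega) hM, rfl⟩, ?_⟩
    by_cases hM0 : M = 0
    · rw [hM0, map_zero]; exact zero_mem _
    have hMe : M.natDegree < e := (natDegree_lt_iff_degree_lt hM0).2 (mem_degreeLT.1 hM)
    exact mem_degreeLT.2 (lt_of_lt_of_le (natDegree_Λ_le r a M) (by exact_mod_cast (by omega : M.natDegree + m ≤ e - 1 + m)))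

open scoped Classical in
theorem finrank_top (b N d : ℕ) (hN : N = (∑ j, a j) + b) (hd : d + 1 = (∑ j, (a j + 1)) + b) (n : ℕ) (hn : n ≤ N) :
    Module.finrank k ↥(Vs r a N ⊓ degreeLT k (d + 1 - n)) = if n ≤ b then N - n else N + 1 - n := by
  have hd' : d + 1 = N + m := by
    rw [hd, hN, Finset.sum_add_distrib]; simp; omega
  rw [show d + 1 - n = (N + 1 - n) - 1 + m by omega,
    (Vs_inf_top r a N (by omega) (N + 1 - n) (by omega)).resolve_right (by omega),
    finrank_map_Λ r a N (by omega) _ (degreeLT_mono (by omega)), finrank_degreeLT]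
  have hmem : D₀ r a ∈ degreeLT k (N + 1 - n) ↔ n ≤ b := by
    rw [mem_degreeLT, degree_eq_natDegree (D₀_ne_zero r a), natDegree_D₀, Nat.cast_lt]
    omega
  by_cases h : n ≤ b
  · rw [if_pos h, if_pos (hmem.2 h)]; omega
  · rw [if_neg h, if_neg (fun hh => h (hmem.1 hh)), Nat.sub_zero]

theorem finrank_top_all (b N d : ℕ) (hN : N = (∑ j, a j) + b) (hd : d + 1 = (∑ j, (a j + 1)) + b) (n : ℕ) :
    Module.finrank k ↥(Vs r a N ⊓ degreeLT k (d + 1 - n)) = if n ≤ b then N - n else N + 1 - n := by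
  classical
  rcases le_or_gt n N with hn | hn
  · exact finrank_top r a b N d hN hd n hn
  rw [if_neg (by omega), show N + 1 - n = 0 by omega]
  rw [Submodule.finrank_eq_zero, Submodule.eq_bot_iff]
  rintro _ ⟨⟨M, hM, rfl⟩, hdeg⟩
  have hd' : d + 1 = N + m := by rw [hd, hN, Finset.sum_add_distrib]; simp; omega
  have hdeg' : Λ r a M ∈ degreeLT k (0 + m) := degreeLT_mono (by omega) hdeg
  by_cases hz : Λ r a M = 0
  · exact hz
  exfalso
  rcases Nat.eq_zero_or_pos m with rfl | hm
  · exact hz (by simpa [mem_degreeLT] using hdeg')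
  have h2 : Λ r a M ∈ degreeLT k (m - 1) := degreeLT_mono (by omega) hdeg
  have key : ∀ P : k[X], Λ r a P = Λ r a M → P.natDegree ≠ ∑ j, a j → False := by
    intro P hP hne
    have h0 : P.natDegree = 0 := by
      rcases natDegree_dichotomy r a 0 P (by rw [hP]; exact hdeg') with h | h
      · omega
      · exact absurd h hne
    rw [eq_C_of_natDegree_eq_zero h0] at hP
    have hc := (degree_lt_iff_coeff_zero _ _).1 (mem_degreeLT.1 h2) (m - 1) le_rfl
    rw [← hP, Λ_apply, derivative_C, mul_zero, zero_sub, coeff_neg, neg_eq_zero, coeff_mul_C, finset_sum_coeff] at hc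
    have hcs : (∑ j, ((a j : k[X]) * ∏ l ∈ Finset.univ.erase j, (X - C (r l))).coeff (m - 1)) = ((∑ j, a j : ℕ) : k) := by
      rw [Nat.cast_sum]
      refine Finset.sum_congr rfl fun j _ => ?_
      rw [← C_eq_natCast, coeff_C_mul]
      have hdj : (∏ l ∈ Finset.univ.erase j, (X - C (r l))).natDegree = m - 1 := by
        rw [natDegree_prod _ _ fun l _ => X_sub_C_ne_zero _]; simp
      have := (monic_prod_of_monic _ _ fun l _ => monic_X_sub_C (r l) :
        (∏ l ∈ Finset.univ.erase j, (X - C (r l))).Monic).coeff_natDegree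
      rw [hdj] at this
      rw [this, mul_one]
    rw [hcs] at hc
    rcases mul_eq_zero.1 hc with h' | h'
    · have : (∑ j, a j) = 0 := Nat.cast_eq_zero.1 h'
      omega
    · apply hz
      rw [← hP, h', map_zero, map_zero]
  by_cases hA : M.natDegree = ∑ j, a j
  · set P := M - M.leadingCoeff • D₀ r a with hP
    refine key P (by rw [hP, map_sub, map_smul, Λ_D₀, smul_zero, sub_zero]) fun h' => ?_
    have hmon : (D₀ r a).Monic := monic_prod_of_monic _ _ fun j _ => (monic_X_sub_C _).pow _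
    have hc : P.coeff (∑ j, a j) = 0 := by
      rw [hP, coeff_sub, coeff_smul, ← hA, leadingCoeff, smul_eq_mul,
        show (D₀ r a).coeff M.natDegree = 1 by rw [hA, ← natDegree_D₀ r a]; exact hmon.coeff_natDegree, mul_one, sub_self]
    have hP0 : P = 0 := leadingCoeff_eq_zero.1 (by rw [leadingCoeff, h']; exact hc)
    apply hz
    have : Λ r a P = Λ r a M := by rw [hP, map_sub, map_smul, Λ_D₀, smul_zero, sub_zero]
    rw [← this, hP0, map_zero]
  · exact key M rfl hA

theorem sum_dims (N d e : ℕ) (he : e ≤ N) (hd : N ≤ d + 1) (hdd : N ≤ d ∨ e = N) :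
    (∑ n ∈ Finset.range d, (if n + 1 ≤ e then N - (n + 1) else N + 1 - (n + 1))) = N.choose 2 + (N - e) := by
  classical
  have h1 : ∀ n, (if n + 1 ≤ e then N - (n + 1) else N + 1 - (n + 1)) =
      (N - 1 - n) + if e ≤ n ∧ n < N then 1 else 0 := by
    intro n; split_ifs <;> omega
  rw [Finset.sum_congr rfl fun n _ => h1 n, Finset.sum_add_distrib]
  congr 1
  · obtain ⟨c, hc⟩ := Nat.exists_eq_add_of_le (show N - 1 ≤ d by omega)
    rw [hc, Finset.sum_range_add]
    have hzero : (∑ x ∈ Finset.range c, (N - 1 - (N - 1 + x))) = 0 := Finset.sum_eq_zero fun x _ => by omega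
    rw [hzero, add_zero]
    rcases N with - | N
    · simp
    · simp only [Nat.add_sub_cancel]
      have : ∀ M : ℕ, (∑ x ∈ Finset.range M, (M - x)) = (M + 1).choose 2 := by
        intro M
        induction M with
        | zero => simp
        | succ M ih =>
          rw [Finset.sum_range_succ', Nat.choose_succ_succ' (M + 1) 1, ← ih, Nat.choose_one_right]
          simp [add_comm]
      exact this N
  · rw [← Finset.card_filter]
    rcases hdd with h | h
    · rw [show (Finset.range d).filter (fun n => e ≤ n ∧ n < N) = Finset.Ico e N by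
        ext n; simp only [Finset.mem_filter, Finset.mem_range, Finset.mem_Ico]; omega, Nat.card_Ico]
    · subst h
      rw [Finset.filter_false_of_mem fun n _ => by omega, Finset.card_empty, Nat.sub_self]

/-- cutting a flag with a hyperplane -/
theorem hyperplane_sum (V₁ : Submodule k k[X]) (N : ℕ) (hle : V₁ ≤ Vs r a N)
    (hfin : Module.finrank k ↥V₁ + 1 = Module.finrank k ↥(Vs r a N)) (F : ℕ → Submodule k k[X]) (d K : ℕ) (hK : K ≤ d)
    (hnot : ∀ n < K, ¬ (Vs r a N ⊓ F n ≤ V₁)) (hin : ∀ n, K < n → n < d → Vs r a N ⊓ F n ≤ V₁) :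
    ∃ δ ≤ 1, (∑ n ∈ Finset.range d, Module.finrank k ↥(V₁ ⊓ F n)) + K + δ =
      ∑ n ∈ Finset.range d, Module.finrank k ↥(Vs r a N ⊓ F n) ∧ (K = d → δ = 0) := by
  classical
  haveI : Module.Finite k V₁ := Submodule.finiteDimensional_of_le hle
  have hstep : ∀ n, Module.finrank k ↥(V₁ ⊓ F n) + (if Vs r a N ⊓ F n ≤ V₁ then 0 else 1) =
      Module.finrank k ↥(Vs r a N ⊓ F n) := by
    intro n
    have hinf : V₁ ⊓ (Vs r a N ⊓ F n) = V₁ ⊓ F n := by rw [← inf_assoc, inf_eq_left.2 hle]
    haveI : Module.Finite k ↥(Vs r a N ⊓ F n) := Submodule.finiteDimensional_of_le inf_le_left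
    split_ifs with h
    · rw [add_zero, ← hinf, inf_eq_right.2 h]
    · have hsup : V₁ ⊔ (Vs r a N ⊓ F n) = Vs r a N := by
        refine Submodule.eq_of_le_of_finrank_le (sup_le hle inf_le_left) ?_
        have hlt : V₁ < V₁ ⊔ (Vs r a N ⊓ F n) := lt_of_le_of_ne le_sup_left fun e => h (e ▸ le_sup_right)
        haveI : Module.Finite k ↥(V₁ ⊔ (Vs r a N ⊓ F n)) := Submodule.finiteDimensional_of_le (sup_le hle inf_le_left)
        have := Submodule.finrank_lt_finrank_of_lt hlt
        omega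
      have := Submodule.finrank_sup_add_finrank_inf_eq V₁ (Vs r a N ⊓ F n)
      rw [hsup, hinf] at this
      omega
  refine ⟨if K < d ∧ ¬ (Vs r a N ⊓ F K ≤ V₁) then 1 else 0, by split_ifs <;> omega, ?_, fun h => if_neg (by omega)⟩
  rw [← Finset.sum_congr rfl fun n _ => hstep n, Finset.sum_add_distrib, add_assoc]
  congr 1
  have hval : ∀ n ∈ Finset.range d, (if Vs r a N ⊓ F n ≤ V₁ then 0 else 1) =
      (if n < K then 1 else 0) + (if n = K ∧ ¬ (Vs r a N ⊓ F K ≤ V₁) then 1 else 0) := by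
    intro n hn
    rcases lt_trichotomy n K with h | h | h
    · rw [if_neg (hnot n h), if_pos h, if_neg (by omega)]
    · subst h
      rw [if_neg (lt_irrefl n)]
      split_ifs <;> simp_all
    · rw [if_pos (hin n h (Finset.mem_range.1 hn)), if_neg (by omega), if_neg (by omega)]
  rw [Finset.sum_congr rfl hval, Finset.sum_add_distrib, ← Finset.card_filter,
    show (Finset.range d).filter (fun n => n < K) = Finset.range K by ext; simp; omega, Finset.card_range]
  congr 1
  by_cases hc : Vs r a N ⊓ F K ≤ V₁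
  · simp [hc]
  · simp [hc]

end Groth.Agent.PoleW15
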